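import Groth.Agent.FrobLCI.CE.Model

/-!
Exterior multiplication on the recursive Koszul model, and the Koszul complex with one divided power
variable adjoined that kills a given vector.
-/

universe u

namespace Groth.FrobLCI.TorObs

open Groth.FrobLCI.CE

variable {R : Type u} [CommRing R]

/-- Left multiplication by `∑ w j e_j`. -/
def wedge : ∀ {n : ℕ} (_w : Fin n → R) (i : ℕ), (idx n i → R) → (idx n (i + 1) → R)
  | 0, _, _, _ => fun j => Empty.elim j
  | n + 1, w, 0, v => fun j =>
    match (j : idx n 0 ⊕ idx n 1) with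
    | Sum.inl a => w 0 * v a
    | Sum.inr b => wedge (Fin.tail w) 0 v b
  | n + 1, w, i + 1, v => fun j =>
    match (j : idx n (i + 1) ⊕ idx n (i + 2)) with
    | Sum.inl a => w 0 * v (Sum.inr a) - wedge (Fin.tail w) i (fun k => v (Sum.inl k)) a
    | Sum.inr b => wedge (Fin.tail w) (i + 1) (fun k => v (Sum.inr k)) b

section lemmas

variable {n : ℕ} (w : Fin (n + 1) → R)

theorem wedge_zero_inl (v : idx (n + 1) 0 → R) (a : idx n 0) : wedge w 0 v (Sum.inl a) = w 0 * v a := rfl

theorem wedge_zero_inr (v : idx (n + 1) 0 → R) (b : idx n 1) :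
    wedge w 0 v (Sum.inr b) = wedge (Fin.tail w) 0 v b := rfl

theorem wedge_succ_inl (i : ℕ) (v : idx (n + 1) (i + 1) → R) (a : idx n (i + 1)) :
    wedge w (i + 1) v (Sum.inl a) =
      w 0 * v (Sum.inr a) - wedge (Fin.tail w) i (fun k => v (Sum.inl k)) a := rfl

theorem wedge_succ_inr (i : ℕ) (v : idx (n + 1) (i + 1) → R) (b : idx n (i + 2)) :
    wedge w (i + 1) v (Sum.inr b) = wedge (Fin.tail w) (i + 1) (fun k => v (Sum.inr k)) b := rfl

end lemmas

theorem wedge_add : ∀ {n : ℕ} (w : Fin n → R) (i : ℕ) (v v' : idx n i → R),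
    wedge w i (v + v') = wedge w i v + wedge w i v'
  | 0, _, _, _, _ => funext fun j => Empty.elim j
  | n + 1, w, 0, v, v' => funext fun j => by
    rcases j with a | b
    · rw [Pi.add_apply, wedge_zero_inl, wedge_zero_inl, wedge_zero_inl]
      exact mul_add _ _ _
    · rw [Pi.add_apply, wedge_zero_inr, wedge_zero_inr, wedge_zero_inr]
      exact congrFun (wedge_add (Fin.tail w) 0 v v') b
  | n + 1, w, i + 1, v, v' => funext fun j => by
    rcases j with a | b
    · rw [Pi.add_apply, wedge_succ_inl, wedge_succ_inl, wedge_succ_inl,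
        show (fun k => (v + v') (Sum.inl k)) = (fun k => v (Sum.inl k)) + fun k => v' (Sum.inl k) from rfl,
        wedge_add, Pi.add_apply, Pi.add_apply]
      ring
    · rw [Pi.add_apply, wedge_succ_inr, wedge_succ_inr, wedge_succ_inr,
        show (fun k => (v + v') (Sum.inr k)) = (fun k => v (Sum.inr k)) + fun k => v' (Sum.inr k) from rfl,
        wedge_add, Pi.add_apply]

theorem wedge_smul : ∀ {n : ℕ} (w : Fin n → R) (i : ℕ) (c : R) (v : idx n i → R),
    wedge w i (c • v) = c • wedge w i v
  | 0, _, _, _, _ => funext fun j => Empty.elim j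
  | n + 1, w, 0, c, v => funext fun j => by
    rcases j with a | b
    · rw [Pi.smul_apply, wedge_zero_inl, wedge_zero_inl]
      exact mul_left_comm _ _ _
    · rw [Pi.smul_apply, wedge_zero_inr, wedge_zero_inr]
      exact congrFun (wedge_smul (Fin.tail w) 0 c v) b
  | n + 1, w, i + 1, c, v => funext fun j => by
    rcases j with a | b
    · rw [Pi.smul_apply, wedge_succ_inl, wedge_succ_inl,
        show (fun k => (c • v) (Sum.inl k)) = c • fun k => v (Sum.inl k) from rfl,
        wedge_smul, Pi.smul_apply, Pi.smul_apply]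
      simp only [smul_eq_mul]
      ring
    · rw [Pi.smul_apply, wedge_succ_inr, wedge_succ_inr,
        show (fun k => (c • v) (Sum.inr k)) = c • fun k => v (Sum.inr k) from rfl,
        wedge_smul, Pi.smul_apply]

theorem smul_wedge_eq_zero {c : R} : ∀ {n : ℕ} (w : Fin n → R) (i : ℕ) (v : idx n i → R),
    (∀ j, c * w j = 0) → c • wedge w i v = 0
  | 0, _, _, _, _ => funext fun j => Empty.elim j
  | n + 1, w, 0, v, h => funext fun j => by
    rcases j with a | b
    · rw [Pi.smul_apply, wedge_zero_inl, smul_eq_mul, ← mul_assoc, h 0, zero_mul]; rfl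
    · rw [Pi.smul_apply, wedge_zero_inr]
      exact congrFun (smul_wedge_eq_zero (Fin.tail w) 0 v fun j => h j.succ) b
  | n + 1, w, i + 1, v, h => funext fun j => by
    rcases j with a | b
    · rw [Pi.smul_apply, wedge_succ_inl, smul_eq_mul, mul_sub, ← mul_assoc, h 0, zero_mul]
      have h1 : c * wedge (Fin.tail w) i (fun k => v (Sum.inl k)) a = 0 :=
        congrFun (smul_wedge_eq_zero (Fin.tail w) i (fun k => v (Sum.inl k)) fun j => h j.succ) a
      rw [h1, sub_zero]; rfl
    · rw [Pi.smul_apply, wedge_succ_inr]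
      exact congrFun (smul_wedge_eq_zero (Fin.tail w) (i + 1) _ fun j => h j.succ) b

theorem wedge_wedge : ∀ {n : ℕ} (w : Fin n → R) (i : ℕ) (v : idx n i → R),
    wedge w (i + 1) (wedge w i v) = 0
  | 0, _, _, _ => funext fun j => Empty.elim j
  | n + 1, w, 0, v => funext fun j => by
    rcases j with a | b
    · rw [wedge_succ_inl, wedge_zero_inr,
        show (fun k => wedge w 0 v (Sum.inl k)) = w 0 • v from rfl]
      have h : wedge (Fin.tail w) 0 (w 0 • v) a = w 0 * wedge (Fin.tail w) 0 v a :=
        congrFun (wedge_smul (Fin.tail w) 0 (w 0) v) a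
      rw [h, sub_self]; rfl
    · rw [wedge_succ_inr, show (fun k => wedge w 0 v (Sum.inr k)) = wedge (Fin.tail w) 0 v from rfl]
      exact congrFun (wedge_wedge (Fin.tail w) 0 v) b
  | n + 1, w, i + 1, v => funext fun j => by
    rcases j with a | b
    · rw [wedge_succ_inl, wedge_succ_inr,
        show (fun k => wedge w (i + 1) v (Sum.inl k)) =
          w 0 • (fun k => v (Sum.inr k)) + (-1 : R) • wedge (Fin.tail w) i (fun k => v (Sum.inl k)) from
          funext fun k => by simp [wedge_succ_inl, sub_eq_add_neg],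
        wedge_add, wedge_smul, wedge_smul, wedge_wedge, smul_zero, add_zero]
      simp
    · rw [wedge_succ_inr,
        show (fun k => wedge w (i + 1) v (Sum.inr k)) = wedge (Fin.tail w) (i + 1) (fun k => v (Sum.inr k)) from rfl,
        wedge_wedge]
      rfl

theorem d_wedge_zero : ∀ {n : ℕ} (x w : Fin n → R) (v : idx n 0 → R),
    d x 0 (wedge w 0 v) = (∑ j, x j * w j) • v
  | 0, _, _, _ => funext fun _ => by simp; rfl
  | n + 1, x, w, v => funext fun j => by
    rw [d_zero_apply, wedge_zero_inl,
      show (fun k => wedge w 0 v (Sum.inr k)) = wedge (Fin.tail w) 0 v from rfl]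
    have h : d (Fin.tail x) 0 (wedge (Fin.tail w) 0 v) j = (∑ l, Fin.tail x l * Fin.tail w l) * v j :=
      congrFun (d_wedge_zero (Fin.tail x) (Fin.tail w) v) j
    rw [h, Pi.smul_apply, Fin.sum_univ_succ, smul_eq_mul, smul_eq_mul]
    simp only [Fin.tail]
    ring

theorem d_wedge : ∀ {n : ℕ} (x w : Fin n → R) (i : ℕ) (v : idx n (i + 1) → R),
    d x (i + 1) (wedge w (i + 1) v) + wedge w i (d x i v) = (∑ j, x j * w j) • v
  | 0, _, _, _, _ => funext fun j => Empty.elim j
  | n + 1, x, w, 0, v => funext fun j => by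
    rcases j with a | b
    · rw [Pi.add_apply, d_succ_inl, wedge_zero_inl, d_zero_apply,
        show (fun k => wedge w 1 v (Sum.inl k)) =
          w 0 • (fun k => v (Sum.inr k)) + (-1 : R) • wedge (Fin.tail w) 0 (fun k => v (Sum.inl k)) from
          funext fun k => by simp [wedge_succ_inl, sub_eq_add_neg],
        d_add, d_smul, d_smul, d_wedge_zero]
      simp only [Pi.add_apply, Pi.smul_apply, smul_eq_mul, Fin.sum_univ_succ, Fin.tail]
      ring
    · rw [Pi.add_apply, d_succ_inr, wedge_succ_inl, wedge_zero_inr,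
        show (fun k => wedge w 1 v (Sum.inr k)) = wedge (Fin.tail w) 1 (fun k => v (Sum.inr k)) from rfl,
        show d x 0 v = x 0 • (fun k => v (Sum.inl k)) + d (Fin.tail x) 0 (fun k => v (Sum.inr k)) from rfl]
      have h := congrFun (d_wedge (Fin.tail x) (Fin.tail w) 0 fun k => v (Sum.inr k)) b
      rw [Pi.add_apply, Pi.smul_apply] at h
      have h2 : wedge (Fin.tail w) 0 (x 0 • (fun k => v (Sum.inl k)) + d (Fin.tail x) 0 fun k => v (Sum.inr k)) b =
          x 0 * wedge (Fin.tail w) 0 (fun k => v (Sum.inl k)) b +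
            wedge (Fin.tail w) 0 (d (Fin.tail x) 0 fun k => v (Sum.inr k)) b := by
        rw [wedge_add, wedge_smul]; rfl
      rw [h2]
      simp only [Pi.smul_apply, smul_eq_mul, Fin.sum_univ_succ, Fin.tail] at h ⊢
      linear_combination h
  | n + 1, x, w, i + 1, v => funext fun j => by
    rcases j with a | b
    · rw [Pi.add_apply, d_succ_inl, wedge_succ_inl, d_succ_inr,
        show (fun k => wedge w (i + 2) v (Sum.inl k)) =
          w 0 • (fun k => v (Sum.inr k)) + (-1 : R) • wedge (Fin.tail w) (i + 1) (fun k => v (Sum.inl k)) from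
          funext fun k => by simp [wedge_succ_inl, sub_eq_add_neg],
        show (fun k => d x (i + 1) v (Sum.inl k)) = (-1 : R) • d (Fin.tail x) i (fun k => v (Sum.inl k)) from
          funext fun k => (neg_one_smul R _).symm,
        d_add, d_smul, d_smul, wedge_smul]
      have h := congrFun (d_wedge (Fin.tail x) (Fin.tail w) i fun k => v (Sum.inl k)) a
      rw [Pi.add_apply, Pi.smul_apply] at h
      simp only [Pi.add_apply, Pi.smul_apply, smul_eq_mul, Fin.sum_univ_succ, Fin.tail] at h ⊢
      linear_combination h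
    · rw [Pi.add_apply, d_succ_inr, wedge_succ_inl, wedge_succ_inr,
        show (fun k => wedge w (i + 2) v (Sum.inr k)) = wedge (Fin.tail w) (i + 2) (fun k => v (Sum.inr k)) from rfl,
        show (fun k => d x (i + 1) v (Sum.inr k)) =
          x 0 • (fun k => v (Sum.inl k)) + d (Fin.tail x) (i + 1) (fun k => v (Sum.inr k)) from rfl,
        wedge_add, wedge_smul]
      have h := congrFun (d_wedge (Fin.tail x) (Fin.tail w) (i + 1) fun k => v (Sum.inr k)) b
      rw [Pi.add_apply, Pi.smul_apply] at h
      simp only [Pi.add_apply, Pi.smul_apply, smul_eq_mul, Fin.sum_univ_succ, Fin.tail] at h ⊢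
      linear_combination h

theorem d_zero_mem {I : Ideal R} : ∀ {n : ℕ} (x : Fin n → R) (v : idx n 1 → R) (j : idx n 0),
    (∀ l, x l ∈ I) → d x 0 v j ∈ I
  | 0, _, _, _, _ => I.zero_mem
  | n + 1, x, v, j, h => by
    rw [d_zero_apply, smul_eq_mul]
    exact I.add_mem (I.mul_mem_right _ (h 0)) (d_zero_mem (Fin.tail x) _ j fun l => h l.succ)

/-- Index type of the Koszul complex with a divided power variable of degree two adjoined. -/
@[reducible] def jdx (m : ℕ) : ℕ → Type
  | 0 => idx m 0
  | 1 => idx m 1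
  | N + 2 => idx m (N + 2) ⊕ jdx m N

/-- `jdx` is finite. -/
def fintypeJdx (m : ℕ) : ∀ N, Fintype (jdx m N)
  | 0 => inferInstanceAs (Fintype (idx m 0))
  | 1 => inferInstanceAs (Fintype (idx m 1))
  | N + 2 =>
    letI := fintypeJdx m N
    inferInstanceAs (Fintype (idx m (N + 2) ⊕ jdx m N))

instance (m N : ℕ) : Fintype (jdx m N) := fintypeJdx m N

noncomputable instance (m N : ℕ) : DecidableEq (jdx m N) := Classical.decEq _

/-- The component in degree zero of the divided power variable. -/
def head {m : ℕ} : ∀ N, (jdx m N → R) → (idx m N → R)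
  | 0, v => v
  | 1, v => v
  | _ + 2, v => fun k => v (Sum.inl k)

/-- The differential. -/
def D {m : ℕ} (x w : Fin m → R) : ∀ N, (jdx m (N + 1) → R) → (jdx m N → R)
  | 0, v => d x 0 v
  | 1, v => d x 1 (fun k => v (Sum.inl k)) + wedge w 0 (fun k => v (Sum.inr k))
  | N + 2, v => fun j =>
    match (j : idx m (N + 2) ⊕ jdx m N) with
    | Sum.inl a => d x (N + 2) (fun k => v (Sum.inl k)) a + wedge w (N + 1) (head (N + 1) fun k => v (Sum.inr k)) a
    | Sum.inr b => D x w N (fun k => v (Sum.inr k)) b

section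

variable {m : ℕ} (x w : Fin m → R)

theorem D_one_apply (v : jdx m 2 → R) :
    D x w 1 v = d x 1 (fun k => v (Sum.inl k)) + wedge w 0 (fun k => v (Sum.inr k)) := rfl

theorem D_succ_inl (N : ℕ) (v : jdx m (N + 3) → R) (a : idx m (N + 2)) :
    D x w (N + 2) v (Sum.inl a) =
      d x (N + 2) (fun k => v (Sum.inl k)) a + wedge w (N + 1) (head (N + 1) fun k => v (Sum.inr k)) a := rfl

theorem D_succ_inr (N : ℕ) (v : jdx m (N + 3) → R) (b : jdx m N) :
    D x w (N + 2) v (Sum.inr b) = D x w N (fun k => v (Sum.inr k)) b := rfl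

theorem head_add : ∀ N (v v' : jdx m N → R), head N (v + v') = head N v + head N v'
  | 0, _, _ => rfl
  | 1, _, _ => rfl
  | _ + 2, _, _ => rfl

theorem head_smul : ∀ N (c : R) (v : jdx m N → R), head N (c • v) = c • head N v
  | 0, _, _ => rfl
  | 1, _, _ => rfl
  | _ + 2, _, _ => rfl

theorem D_add : ∀ N (v v' : jdx m (N + 1) → R), D x w N (v + v') = D x w N v + D x w N v'
  | 0, v, v' => d_add x 0 v v'
  | 1, v, v' => by
    rw [D_one_apply, D_one_apply, D_one_apply,
      show (fun k => (v + v') (Sum.inl k)) = (fun k => v (Sum.inl k)) + fun k => v' (Sum.inl k) from rfl,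
      show (fun k => (v + v') (Sum.inr k)) = (fun k => v (Sum.inr k)) + fun k => v' (Sum.inr k) from rfl,
      d_add, wedge_add]
    abel
  | N + 2, v, v' => funext fun j => by
    rcases j with a | b
    · rw [Pi.add_apply, D_succ_inl, D_succ_inl, D_succ_inl,
        show (fun k => (v + v') (Sum.inl k)) = (fun k => v (Sum.inl k)) + fun k => v' (Sum.inl k) from rfl,
        show (fun k => (v + v') (Sum.inr k)) = (fun k => v (Sum.inr k)) + fun k => v' (Sum.inr k) from rfl,
        d_add, head_add, wedge_add, Pi.add_apply, Pi.add_apply]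
      abel
    · rw [Pi.add_apply, D_succ_inr, D_succ_inr, D_succ_inr,
        show (fun k => (v + v') (Sum.inr k)) = (fun k => v (Sum.inr k)) + fun k => v' (Sum.inr k) from rfl,
        D_add N, Pi.add_apply]

theorem D_smul : ∀ N (c : R) (v : jdx m (N + 1) → R), D x w N (c • v) = c • D x w N v
  | 0, c, v => d_smul x 0 c v
  | 1, c, v => by
    rw [D_one_apply, D_one_apply,
      show (fun k => (c • v) (Sum.inl k)) = c • fun k => v (Sum.inl k) from rfl,
      show (fun k => (c • v) (Sum.inr k)) = c • fun k => v (Sum.inr k) from rfl,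
      d_smul, wedge_smul, smul_add]
  | N + 2, c, v => funext fun j => by
    rcases j with a | b
    · rw [Pi.smul_apply, D_succ_inl, D_succ_inl,
        show (fun k => (c • v) (Sum.inl k)) = c • fun k => v (Sum.inl k) from rfl,
        show (fun k => (c • v) (Sum.inr k)) = c • fun k => v (Sum.inr k) from rfl,
        d_smul, head_smul, wedge_smul, Pi.smul_apply, Pi.smul_apply, smul_add]
    · rw [Pi.smul_apply, D_succ_inr, D_succ_inr,
        show (fun k => (c • v) (Sum.inr k)) = c • fun k => v (Sum.inr k) from rfl,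
        D_smul N, Pi.smul_apply]

/-- The differential as a linear map. -/
def DL (N : ℕ) : (jdx m (N + 1) → R) →ₗ[R] (jdx m N → R) where
  toFun := D x w N
  map_add' := D_add x w N
  map_smul' := D_smul x w N

theorem head_D : ∀ N (v : jdx m (N + 2) → R),
    head (N + 1) (D x w (N + 1) v) = d x (N + 1) (fun k => v (Sum.inl k)) + wedge w N (head N fun k => v (Sum.inr k))
  | 0, _ => rfl
  | _ + 1, _ => rfl

theorem D_D : ∀ N (v : jdx m (N + 2) → R),
    D x w N (D x w (N + 1) v) = (∑ j, x j * w j) • fun k => v (Sum.inr k)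
  | 0, v => by
    rw [show D x w 0 (D x w 1 v) = d x 0 (d x 1 (fun k => v (Sum.inl k)) + wedge w 0 (fun k => v (Sum.inr k))) from rfl,
      d_add, d_d, d_wedge_zero]
    exact zero_add _
  | 1, v => by
    rw [D_one_apply,
      show (fun k => D x w 2 v (Sum.inl k)) =
        d x 2 (fun k => v (Sum.inl k)) + wedge w 1 (head 1 fun k => v (Sum.inr k)) from rfl,
      show (fun k => D x w 2 v (Sum.inr k)) = d x 0 (fun k => v (Sum.inr k)) from rfl,
      d_add, d_d]
    exact (congrArg₂ (· + ·) (zero_add _) rfl).trans (d_wedge x w 0 _)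
  | N + 2, v => funext fun j => by
    rcases j with a | b
    · rw [D_succ_inl,
        show (fun k => D x w (N + 3) v (Sum.inl k)) =
          d x (N + 3) (fun k => v (Sum.inl k)) + wedge w (N + 2) (head (N + 2) fun k => v (Sum.inr k)) from rfl,
        show (fun k => D x w (N + 3) v (Sum.inr k)) = D x w (N + 1) (fun k => v (Sum.inr k)) from rfl,
        head_D, d_add, d_d, zero_add, wedge_add, wedge_wedge, add_zero]
      exact congrFun (d_wedge x w (N + 1) _) a
    · rw [D_succ_inr, show (fun k => D x w (N + 3) v (Sum.inr k)) = D x w (N + 1) (fun k => v (Sum.inr k)) from rfl,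
        D_D N]
      rfl

/-- The powers of the divided power variable. -/
def T {m : ℕ} : ∀ q : ℕ, jdx m (2 * q) → R
  | 0 => fun _ => 1
  | q + 1 => fun j =>
    match (j : idx m (2 * q + 2) ⊕ jdx m (2 * q)) with
    | Sum.inl _ => 0
    | Sum.inr b => T q b

theorem D_T_eq : ∀ q, D x w (2 * q + 3) (T (q + 2)) =
    fun j : jdx m (2 * q + 3) => Sum.elim (fun _ => (0 : R)) (D x w (2 * q + 1) (T (q + 1))) j := fun q =>
  funext fun j => by
    rcases j with a | b
    · rw [show D x w (2 * q + 3) (T (q + 2)) (Sum.inl a) =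
        d x (2 * q + 3) (0 : idx m (2 * q + 4) → R) a + wedge w (2 * q + 2) (0 : idx m (2 * q + 2) → R) a from rfl]
      have h1 : d x (2 * q + 3) (0 : idx m (2 * q + 4) → R) = 0 := (dL x _).map_zero
      have h2 : wedge w (2 * q + 2) (0 : idx m (2 * q + 2) → R) = 0 := by
        simpa using wedge_smul w (2 * q + 2) 0 (0 : idx m (2 * q + 2) → R)
      rw [h1, h2]
      exact add_zero 0
    · rfl

theorem smul_D_T {c : R} (h : ∀ j, c * w j = 0) : ∀ q, c • D x w (2 * q + 1) (T (q + 1)) = 0
  | 0 => by
    rw [show D x w 1 (T 1) = d x 1 (0 : idx m 2 → R) + wedge w 0 (fun _ => 1) from rfl,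
      show d x 1 (0 : idx m 2 → R) = 0 from (dL x _).map_zero, zero_add]
    exact smul_wedge_eq_zero w 0 _ h
  | q + 1 => funext fun j => by
    have ih := smul_D_T h q
    rw [show D x w (2 * (q + 1) + 1) (T (q + 1 + 1)) = _ from D_T_eq x w q]
    rcases j with a | b
    · exact mul_zero c
    · exact congrFun ih b

end

end Groth.FrobLCI.TorObs
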