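import Groth.Agent.FrobLCI.TorObs.Core
import Groth.Agent.FrobLCI.CE.Main
import Groth.Agent.HTopHyper.HTor.Balance
import Groth.Prelude.Def_DRing2
import Mathlib.LinearAlgebra.TensorProduct.Quotient
import Mathlib.RingTheory.LocalRing.Basic

/-!
A relation of the generators with coefficients in the maximal ideal obstructs finite tor dimension.
-/

universe u

namespace Groth.FrobLCI.TorObs

open TensorProduct Groth.FrobLCI.CE

theorem exists_gen {P : Type u} [CommRing P] [IsNoetherianRing P] (F : P) {a c : ℕ}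
    (L : (Fin a → P) →ₗ[P] (Fin c → P)) : ∃ (a' : ℕ) (L' : (Fin a' → P) →ₗ[P] (Fin a → P)),
      ∀ v, v ∈ LinearMap.range L' ↔ ∃ u, L v = F • u := by
  let K : Submodule P (Fin a → P) := (LinearMap.range (LinearMap.lsmul P (Fin c → P) F)).comap L
  obtain ⟨k, s, hs⟩ := Submodule.fg_iff_exists_fin_generating_family.1 (IsNoetherian.noetherian K)
  refine ⟨k, Fintype.linearCombination P s, fun v => ?_⟩
  rw [Fintype.range_linearCombination, hs]
  exact ⟨fun ⟨u, hu⟩ => ⟨u, hu.symm⟩, fun ⟨u, hu⟩ => ⟨u, hu.symm⟩⟩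

theorem exists_resolution {P : Type u} [CommRing P] [IsNoetherianRing P] (F : P) {m : ℕ}
    (L : (Fin m → P) →ₗ[P] (Fin 1 → P)) : ∃ (b : ℕ → ℕ) (G : ∀ i, (Fin (b (i + 1)) → P) →ₗ[P] (Fin (b i) → P))
      (h0 : b 0 = 1), (∀ t : P, (∃ z, (fun _ => t) = G 0 z) ↔ ∃ z, (fun _ => t) = L z) ∧
        ∀ i v, v ∈ LinearMap.range (G (i + 1)) ↔ ∃ u, G i v = F • u := by
  classical
  let St : ℕ → Σ (a : ℕ) (c : ℕ), (Fin a → P) →ₗ[P] (Fin c → P) := fun i => Nat.rec ⟨m, 1, L⟩
    (fun _ S => ⟨(exists_gen F S.2.2).choose, S.1, (exists_gen F S.2.2).choose_spec.choose⟩) i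
  exact ⟨fun i => (St i).2.1, fun i => (St i).2.2, rfl, fun t => Iff.rfl,
    fun i => (exists_gen F (St i).2.2).choose_spec.choose_spec⟩

/-- A submodule of a flat module with flat-enough quotient meets `I` times the module in `I` times itself. -/
theorem mem_smul_of_tor {R : Type u} [CommRing R] (I : Ideal R) {M₁ B M : Type u} [AddCommGroup M₁] [Module R M₁]
    [AddCommGroup B] [Module R B] [Module.Flat R B] [AddCommGroup M] [Module R M] (v : M₁ →ₗ[R] B) (ρ : B →ₗ[R] M)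
    (hv : Function.Injective v) (hρ : Function.Surjective ρ) (hvρ : Function.Exact v ρ)
    (h : Subsingleton (DRing.Tor R 1 M (R ⧸ I))) {z : M₁} (hz : v z ∈ I • (⊤ : Submodule R B)) :
    z ∈ I • (⊤ : Submodule R M₁) := by
  obtain ⟨e₁⟩ := Groth.HTorLib.tor_one_equiv (H := M) (ι := I.subtype) (π := I.mkQ) (Submodule.subtype_injective I)
    (Submodule.mkQ_surjective I) (LinearMap.exact_subtype_mkQ I)
  obtain ⟨e₂⟩ := Groth.HTorLib.snake (M := M) (N := R ⧸ I) hv hρ hvρ (Submodule.subtype_injective I)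
    (Submodule.mkQ_surjective I) (LinearMap.exact_subtype_mkQ I)
  have : Subsingleton (LinearMap.ker (v.rTensor (R ⧸ I))) := (e₁.trans e₂).symm.injective.subsingleton
  have hinj : Function.Injective (v.rTensor (R ⧸ I)) :=
    LinearMap.ker_eq_bot.1 (Submodule.subsingleton_iff_eq_bot.1 this)
  have h1 : v.rTensor (R ⧸ I) (z ⊗ₜ[R] (1 : R ⧸ I)) = 0 := by
    rw [LinearMap.rTensor_tmul]
    apply (TensorProduct.tensorQuotEquivQuotSMul B I).injective
    rw [map_zero, show (1 : R ⧸ I) = Ideal.Quotient.mk I 1 from rfl,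
      TensorProduct.tensorQuotEquivQuotSMul_tmul_mk, one_smul, Submodule.Quotient.mk_eq_zero]
    exact hz
  have h2 := hinj (h1.trans (map_zero _).symm)
  have h3 := congrArg (TensorProduct.tensorQuotEquivQuotSMul M₁ I) h2
  rw [map_zero, show (1 : R ⧸ I) = Ideal.Quotient.mk I 1 from rfl,
    TensorProduct.tensorQuotEquivQuotSMul_tmul_mk, one_smul, Submodule.Quotient.mk_eq_zero] at h3
  exact h3

theorem mem_smul_pi_iff {R : Type u} [CommRing R] (I : Ideal R) {c : ℕ} (v : Fin c → R) :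
    v ∈ (I • ⊤ : Submodule R (Fin c → R)) ↔ ∀ l, v l ∈ I := by
  classical
  constructor
  · intro hv l
    refine Submodule.smul_induction_on hv (fun a ha u _ => ?_) (fun a b ha hb => ?_)
    · exact I.mul_mem_right _ ha
    · exact Ideal.add_mem _ ha hb
  · intro h
    rw [pi_eq_sum_univ' v]
    exact Submodule.sum_mem _ fun l _ => Submodule.smul_mem_smul (h l) Submodule.mem_top

/-- If `F ∈ (x)·𝔪` is a socle element, `B / (x)` has infinite tor dimension over `B = P / (F)`. -/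
theorem not_hasFiniteTorDim {P B : Type u} [CommRing P] [CommRing B] [IsNoetherianRing P] [IsLocalRing P]
    (π : P →+* B) (hπ : Function.Surjective π) (F : P) (hker : RingHom.ker π = Ideal.span {F}) (hF : F ≠ 0)
    (hann : ∀ y ∈ IsLocalRing.maximalIdeal P, F * y = 0) {m : ℕ} (x w : Fin m → P) (hsum : ∑ j, x j * w j = F)
    (hx : ∀ j, x j ∈ IsLocalRing.maximalIdeal P) (hw : ∀ j, w j ∈ IsLocalRing.maximalIdeal P)
    (M : Type u) [AddCommGroup M] [Module B M] (ρ₀ : B →ₗ[B] M) (hρ₀ : Function.Surjective ρ₀)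
    (hkρ₀ : LinearMap.ker ρ₀ = Ideal.span (Set.range (π ∘ x))) :
    ¬ DRing.HasFiniteTorDim B M := by
  classical
  rintro ⟨n₀, hn₀⟩
  have hFm : F ∈ IsLocalRing.maximalIdeal P := hsum ▸ Ideal.sum_mem _ fun j _ => Ideal.mul_mem_left _ _ (hw j)
  have hFF : F * F = 0 := hann F hFm
  have hannF : ∀ y, F * y = 0 ↔ y ∈ IsLocalRing.maximalIdeal P := fun y =>
    ⟨fun h => (IsLocalRing.mem_maximalIdeal y).mpr fun hu => hF (hu.mul_left_eq_zero.mp h), hann y⟩
  set I : Ideal B := (IsLocalRing.maximalIdeal P).map π with hI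
  have hIiff : ∀ y, π y ∈ I ↔ y ∈ IsLocalRing.maximalIdeal P := fun y => by
    refine ⟨fun h => ?_, Ideal.mem_map_of_mem π⟩
    obtain ⟨a, ha, hae⟩ := (Ideal.mem_map_iff_of_surjective π hπ).1 h
    have hk : y - a ∈ RingHom.ker π := by rw [RingHom.mem_ker, map_sub, hae, sub_self]
    rw [hker, Ideal.mem_span_singleton'] at hk
    obtain ⟨c, hc⟩ := hk
    rw [show y = c * F + a by rw [hc, sub_add_cancel]]
    exact Ideal.add_mem _ (Ideal.mul_mem_left _ _ hFm) ha
  have hπF : π F = 0 := RingHom.mem_ker.1 (hker ▸ Ideal.mem_span_singleton_self F)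
  let L : (Fin m → P) →ₗ[P] (Fin 1 → P) := LinearMap.pi fun _ => Fintype.linearCombination _ x
  obtain ⟨b, G, hb, hG0, hG⟩ := exists_resolution F L
  -- the complex over `B`
  let Gb : ∀ i, (Fin (b (i + 1)) → B) →ₗ[B] (Fin (b i) → B) := fun i => tw π (G i)
  have hGb : ∀ i v, Gb i (π ∘ v) = π ∘ G i v := fun i v => tw_apply π (G i) v
  have hlift : ∀ {c : ℕ} (v : Fin c → B), ∃ u, π ∘ u = v := fun v => by
    choose u hu using fun l => hπ (v l)
    exact ⟨u, funext hu⟩
  have hπsmul : ∀ {c : ℕ} (u : Fin c → P), π ∘ (F • u) = 0 := fun u => funext fun l => by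
    simp [hπF]
  have hkerv : ∀ {c : ℕ} (v : Fin c → P), π ∘ v = 0 → ∃ u, v = F • u := fun v hv => by
    have : ∀ l, ∃ u, v l = F * u := fun l => by
      have h : v l ∈ RingHom.ker π := congrFun hv l
      rw [hker, Ideal.mem_span_singleton] at h
      exact h
    choose u hu using this
    exact ⟨u, funext hu⟩
  have hexactb : ∀ i, LinearMap.ker (Gb i) = LinearMap.range (Gb (i + 1)) := fun i => by
    ext v
    obtain ⟨v, rfl⟩ := hlift v
    rw [LinearMap.mem_ker, hGb]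
    constructor
    · intro h
      obtain ⟨z, hz⟩ := (hG i v).2 (hkerv _ h)
      exact ⟨π ∘ z, by rw [hGb, hz]⟩
    · rintro ⟨z, hz⟩
      obtain ⟨z, rfl⟩ := hlift z
      rw [hGb] at hz
      obtain ⟨u, hu⟩ := hkerv (v - G (i + 1) z) (funext fun l => by
        simpa [sub_eq_zero] using (congrFun hz l).symm)
      obtain ⟨u', hu'⟩ := (hG i (G (i + 1) z)).1 ⟨z, rfl⟩
      rw [sub_eq_iff_eq_add] at hu
      rw [hu, map_add, map_smul, hu', ← smul_add, hπsmul]
  -- Tor of the syzygies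
  let Z : ∀ i, Submodule B (Fin (b i) → B) := fun i => LinearMap.range (Gb i)
  have hl0 : 0 < b 0 := by omega
  have hone : ∀ v : Fin (b 0) → P, v = fun _ => v ⟨0, hl0⟩ := fun v => funext fun l => by
    congr 1; exact Fin.ext (by omega)
  let ρ : (Fin (b 0) → B) →ₗ[B] M := ρ₀.comp (LinearMap.proj ⟨0, hl0⟩)
  have hρ : Function.Surjective ρ := fun s => by
    obtain ⟨t, rfl⟩ := hρ₀ s
    exact ⟨fun _ => t, rfl⟩
  have hfsJ : Ideal.span (Set.range (π ∘ x)) = (Ideal.span (Set.range x)).map π := by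
    rw [Ideal.map_span, ← Set.range_comp]
  have hexρ : Function.Exact (Z 0).subtype ρ := by
    rw [LinearMap.exact_iff, Submodule.range_subtype]
    ext v
    obtain ⟨v, rfl⟩ := hlift v
    rw [LinearMap.mem_ker, show ρ (π ∘ v) = ρ₀ (π (v ⟨0, hl0⟩)) from rfl, ← LinearMap.mem_ker, hkρ₀, hfsJ]
    constructor
    · intro h
      obtain ⟨t, ht, hte⟩ := (Ideal.mem_map_iff_of_surjective π hπ).1 h
      rw [Ideal.mem_span_range_iff_exists_fun] at ht
      obtain ⟨c, hc⟩ := ht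
      obtain ⟨z, hz⟩ := (hG0 t).2 ⟨c, funext fun _ => by simp [L, Fintype.linearCombination_apply, hc]⟩
      refine ⟨π ∘ z, ?_⟩
      rw [hGb, ← hz, hone v]
      exact funext fun _ => hte
    · rintro ⟨z, hz⟩
      obtain ⟨z, rfl⟩ := hlift z
      rw [hGb] at hz
      obtain ⟨c, hc⟩ := (hG0 (G 0 z ⟨0, hl0⟩)).1 ⟨z, (hone (G 0 z)).symm⟩
      rw [← show π (G 0 z ⟨0, hl0⟩) = π (v ⟨0, hl0⟩) from congrFun hz _]
      refine Ideal.mem_map_of_mem π ?_
      rw [congrFun hc 0]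
      exact Ideal.mem_span_range_iff_exists_fun.2 ⟨c, by simp [L, Fintype.linearCombination_apply]⟩
  have hexZ : ∀ i, Function.Exact (Z (i + 1)).subtype (Gb i).rangeRestrict := fun i => by
    rw [LinearMap.exact_iff, Submodule.range_subtype, LinearMap.ker_rangeRestrict]
    exact hexactb i
  have hTorZ : ∀ i p, Nonempty (DRing.Tor B (p + 1) (Z i) (B ⧸ I) ≃ₗ[B] DRing.Tor B (p + i + 2) M (B ⧸ I)) := by
    intro i
    induction i with
    | zero =>
      intro p
      obtain ⟨e⟩ := Groth.HTorLib.tor_shift_left (Submodule.subtype_injective (Z 0)) hρ hexρ (B ⧸ I) p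
      exact ⟨e.symm⟩
    | succ i ih =>
      intro p
      obtain ⟨e₁⟩ := Groth.HTorLib.tor_shift_left (Submodule.subtype_injective (Z (i + 1)))
        (LinearMap.surjective_rangeRestrict (Gb i)) (hexZ i) (B ⧸ I) p
      obtain ⟨e₂⟩ := ih (p + 1)
      rw [show p + (i + 1) + 2 = p + 1 + i + 2 by omega]
      exact ⟨e₁.symm.trans e₂⟩
  have htor0 : ∀ i, n₀ ≤ i → Subsingleton (DRing.Tor B 1 (Z i) (B ⧸ I)) := fun i hi => by
    obtain ⟨e⟩ := hTorZ i 0
    have := hn₀ (B ⧸ I) (0 + i + 2) (by omega)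
    exact e.injective.subsingleton
  obtain ⟨k, z, hk⟩ := core F hFF x w 1 (by rw [hsum, mul_one]) (fun j => hann _ (hw j)) b G hb
    (fun j e => by
      obtain ⟨z, hz⟩ := (hG0 (x j * e ⟨0, hl0⟩)).2 ⟨Pi.single j (e ⟨0, hl0⟩), funext fun _ => by
        simp [L, Fintype.linearCombination_apply_single, mul_comm]⟩
      exact ⟨z, 0, by rw [smul_zero, add_zero, ← hz, hone e]; rfl⟩)
    (fun i v u h => by
      obtain ⟨z, hz⟩ := (hG i v).2 ⟨u, h⟩
      exact ⟨z, 0, by rw [smul_zero, add_zero, hz]⟩)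
    (fun i v => (hG i _).1 ⟨v, rfl⟩) (n₀ + 1)
    (fun i hi v hv => by
      obtain ⟨i, rfl⟩ : ∃ j, i = j + 1 := ⟨i - 1, by omega⟩
      have h1 : Gb (i + 1) (π ∘ v) ∈ I • (⊤ : Submodule B (Fin (b (i + 1)) → B)) := by
        rw [hGb, mem_smul_pi_iff]
        exact fun l => Ideal.mem_map_of_mem π ((hannF _).1 (congrFun hv l))
      have h2 := Submodule.mem_map_of_mem (f := (Z (i + 1)).subtype)
        (mem_smul_of_tor I (z := ⟨_, π ∘ v, rfl⟩) _ _ (Submodule.subtype_injective (Z (i + 1)))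
        (LinearMap.surjective_rangeRestrict (Gb i)) (hexZ i) (htor0 i (by omega)) h1)
      rw [Submodule.map_smul'', Submodule.map_subtype_top] at h2
      obtain ⟨w, hw, hwe⟩ : Gb (i + 1) (π ∘ v) ∈ Submodule.map (Gb (i + 1)) (I • ⊤) := by
        rw [Submodule.map_smul'', ← LinearMap.range_eq_map]
        exact h2
      have h3 : π ∘ v - w ∈ LinearMap.range (Gb (i + 1 + 1)) := by
        rw [← hexactb, LinearMap.mem_ker, map_sub, hwe]
        exact sub_self _
      obtain ⟨z, hz⟩ := h3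
      obtain ⟨z, rfl⟩ := hlift z
      rw [hGb] at hz
      refine ⟨z, funext fun l => (hannF _).2 ((hIiff _).1 ?_)⟩
      have := (mem_smul_pi_iff I w).1 hw l
      rw [Pi.sub_apply, map_sub]
      have h4 : π (G (i + 1 + 1) z l) = π (v l) - w l := congrFun hz l
      rwa [h4, sub_sub_cancel])
  have h := congrFun hk ⟨0, hl0⟩
  rw [Pi.smul_apply, Pi.sub_apply, Pi.smul_apply, smul_eq_mul, one_pow, one_smul, Pi.zero_apply] at h
  obtain ⟨c, hc⟩ := (hG0 (G 0 z ⟨0, hl0⟩)).1 ⟨z, (hone (G 0 z)).symm⟩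
  have hJ : G 0 z ⟨0, hl0⟩ ∈ IsLocalRing.maximalIdeal P := by
    rw [congrFun hc 0]
    simp only [L, LinearMap.pi_apply, Fintype.linearCombination_apply, smul_eq_mul]
    exact Ideal.sum_mem _ fun j _ => Ideal.mul_mem_left _ _ (hx j)
  have h1 : (1 : P) ∈ IsLocalRing.maximalIdeal P := by
    rw [← sub_add_cancel (1 : P) (G 0 z ⟨0, hl0⟩)]
    exact Ideal.add_mem _ ((hannF _).1 h) hJ
  exact (IsLocalRing.maximalIdeal.isMaximal P).ne_top ((Ideal.eq_top_iff_one _).2 h1)

end Groth.FrobLCI.TorObs
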