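import Groth.Agent.FrobLCI.TorObs.Wedge

/-!
The obstruction to finite Tor dimension, in matrix form over a square-zero thickening.
-/

universe u

namespace Groth.FrobLCI.TorObs

open Groth.FrobLCI.CE

variable {P : Type u} [CommRing P]

theorem map_eq_zero_of_smul {F : P} {a b : ℕ} (L : (Fin a → P) →ₗ[P] (Fin b → P))
    (hL : ∀ v, ∃ u, L v = F • u) {v : Fin a → P} (hv : F • v = 0) : L v = 0 := by
  rw [← (Pi.basisFun P (Fin a)).sum_repr v, map_sum]
  refine Finset.sum_eq_zero fun i _ => ?_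
  obtain ⟨u, hu⟩ := hL (Pi.basisFun P (Fin a) i)
  rw [map_smul, hu, Pi.basisFun_repr, smul_smul, mul_comm,
    show F * v i = 0 from congrFun hv i, zero_smul]

/-- The core argument. -/
theorem core {m : ℕ} (F : P) (hF : F * F = 0) (x w : Fin m → P) (g : P) (hsum : ∑ j, x j * w j = F * g)
    (hw : ∀ j, F * w j = 0) (b : ℕ → ℕ) (G : ∀ i, (Fin (b (i + 1)) → P) →ₗ[P] (Fin (b i) → P))
    (hb : b 0 = 1) (hx : ∀ (j : Fin m) (e : Fin (b 0) → P), ∃ u u', x j • e = G 0 u + F • u')
    (hexact : ∀ i v u, G i v = F • u → ∃ z u', v = G (i + 1) z + F • u')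
    (hdd : ∀ i v, ∃ u, G i (G (i + 1) v) = F • u)
    (N : ℕ) (htor : ∀ i, N ≤ i → ∀ v, F • G i v = 0 → ∃ z, F • (v - G (i + 1) z) = 0) :
    ∃ (k : ℕ) (z : Fin (b 1) → P), F • (g ^ k • (fun _ => 1 : Fin (b 0) → P) - G 0 z) = 0 := by
  classical
  -- a map from the Koszul–Tate complex
  let φ₀ : (jdx m 0 → P) →ₗ[P] (Fin (b 0) → P) := LinearMap.pi fun _ => LinearMap.proj (pt m)
  have hbase : ∀ v : jdx m 1 → P, ∃ z u, φ₀ (D x w 0 v) = G 0 z + F • u := fun v => by
    have h1 : d x 0 v (pt m) ∈ Ideal.span (Set.range x) := d_zero_mem x v _ fun l => Ideal.subset_span ⟨l, rfl⟩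
    have h2 : ∀ t ∈ Ideal.span (Set.range x), ∃ z u, (fun _ => t : Fin (b 0) → P) = G 0 z + F • u := by
      intro t ht
      induction ht using Submodule.span_induction with
      | mem t ht =>
        obtain ⟨j, rfl⟩ := ht
        obtain ⟨u, u', h⟩ := hx j (fun _ => 1)
        exact ⟨u, u', by rw [← h]; funext l; simp⟩
      | zero => exact ⟨0, 0, by simp; rfl⟩
      | add a c _ _ ha hc =>
        obtain ⟨z, u, h⟩ := ha
        obtain ⟨z', u', h'⟩ := hc
        refine ⟨z + z', u + u', ?_⟩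
        rw [map_add, smul_add, show (fun _ => a + c : Fin (b 0) → P) = (fun _ => a) + fun _ => c from rfl, h, h']
        abel
      | smul c a _ ha =>
        obtain ⟨z, u, h⟩ := ha
        refine ⟨c • z, c • u, ?_⟩
        rw [map_smul, smul_comm F c, ← smul_add, ← h]
        rfl
    exact h2 _ h1
  let Sig : ℕ → Type u := fun i =>
    {p : ((jdx m i → P) →ₗ[P] (Fin (b i) → P)) × ((jdx m (i + 1) → P) →ₗ[P] (Fin (b (i + 1)) → P)) //
      ∀ v, ∃ u, p.1 (D x w i v) = G i (p.2 v) + F • u}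
  have hconstr : ∀ {a c : ℕ} {ι : Type} [Fintype ι] [DecidableEq ι] (L : (Fin a → P) →ₗ[P] (Fin c → P))
      (M : (ι → P) →ₗ[P] (Fin c → P)), (∀ v, ∃ z u, M v = L z + F • u) →
      ∃ f : (ι → P) →ₗ[P] (Fin a → P), ∀ v, ∃ u, M v = L (f v) + F • u := by
    intro a c ι _ _ L M h
    choose z u h using h
    refine ⟨(Pi.basisFun P ι).constr P fun i => z (Pi.single i 1),
      fun v => ⟨∑ i, v i • u (Pi.single i 1), ?_⟩⟩
    conv_lhs => rw [← (Pi.basisFun P ι).sum_repr v, map_sum]
    rw [Module.Basis.constr_apply_fintype, map_sum, Finset.smul_sum, ← Finset.sum_add_distrib]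
    refine Finset.sum_congr rfl fun i _ => ?_
    rw [map_smul, map_smul, Pi.basisFun_repr, Pi.basisFun_apply, Pi.basisFun_equivFun, LinearEquiv.refl_apply,
      h (Pi.single i 1), smul_add, smul_comm F]
  have base : ∃ f : (jdx m 1 → P) →ₗ[P] (Fin (b 1) → P), ∀ v, ∃ u, φ₀ (D x w 0 v) = G 0 (f v) + F • u :=
    hconstr (G 0) (φ₀.comp (DL x w 0)) hbase
  have step : ∀ i (S : Sig i), ∃ f : (jdx m (i + 2) → P) →ₗ[P] (Fin (b (i + 2)) → P),
      ∀ v, ∃ u, S.1.2 (D x w (i + 1) v) = G (i + 1) (f v) + F • u := fun i S => by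
    refine hconstr (G (i + 1)) (S.1.2.comp (DL x w (i + 1))) fun v => ?_
    obtain ⟨u, hu⟩ := S.2 (D x w (i + 1) v)
    rw [D_D, map_smul, hsum, mul_smul] at hu
    exact hexact i _ (g • S.1.1 (fun k => v (Sum.inr k)) - u) (by rw [smul_sub, hu, add_sub_cancel_right]; rfl)
  let S : ∀ i, Sig i := fun i => Nat.rec (motive := Sig) ⟨(φ₀, base.choose), base.choose_spec⟩
    (fun i S => ⟨(S.1.2, (step i S).choose), (step i S).choose_spec⟩) i
  let φ : ∀ i, (jdx m i → P) →ₗ[P] (Fin (b i) → P) := fun i => (S i).1.1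
  have hφ : ∀ i v, ∃ u, φ i (D x w i v) = G i (φ (i + 1) v) + F • u := fun i v => (S i).2 v
  -- the cycles
  let y : ∀ q : ℕ, Fin (b (2 * q)) → P := fun q => φ (2 * q) (T q)
  have hy : ∀ q, ∃ u, φ (2 * q + 1) (D x w (2 * q + 1) (T (q + 1))) = G (2 * q + 1) (y (q + 1)) + F • u :=
    fun q => hφ (2 * q + 1) _
  have hDT : ∀ q, F • φ (2 * q + 1) (D x w (2 * q + 1) (T (q + 1))) = 0 := fun q => by
    rw [← map_smul, smul_D_T x w hw, map_zero]
  have hFF : ∀ {a : ℕ} (u : Fin a → P), F • F • u = 0 := fun u => by rw [smul_smul, hF, zero_smul]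
  have hdescend : ∀ q, (∃ z, F • (y q - G (2 * q) z) = 0) →
      ∀ j ≤ q, ∃ z, F • (g ^ j • y (q - j) - G (2 * (q - j)) z) = 0 := by
    intro q hq j
    induction j with
    | zero => intro _; simpa using hq
    | succ j ih =>
      intro hj
      obtain ⟨z, hz⟩ := ih (by omega)
      obtain ⟨r, hr⟩ : ∃ r, q - j = r + 1 := ⟨q - j - 1, by omega⟩
      revert z
      rw [hr]
      intro z hz
      rw [show q - (j + 1) = r by omega]
      obtain ⟨u, hu⟩ := hy r
      -- compute the square of the differential on `y`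
      have hGG : ∀ v, ∃ e, G (2 * r) (G (2 * r + 1) v) = F • e := hdd (2 * r)
      obtain ⟨u', hu'⟩ := hφ (2 * r) (D x w (2 * r + 1) (T (r + 1)))
      have hy2 : G (2 * r) (G (2 * r + 1) (y (r + 1))) = F • (g • y r - G (2 * r) u - u') := by
        have h1 : G (2 * r) (φ (2 * r + 1) (D x w (2 * r + 1) (T (r + 1)))) =
            G (2 * r) (G (2 * r + 1) (y (r + 1))) + F • G (2 * r) u := by rw [hu, map_add, map_smul]
        rw [show φ (2 * r) (D x w (2 * r) (D x w (2 * r + 1) (T (r + 1)))) = F • g • y r by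
          rw [D_D, map_smul, hsum, mul_smul]; rfl, h1] at hu'
        rw [smul_sub, smul_sub, hu']
        abel
      have hu'0 : F • u' = 0 := by
        -- the defect is linear in the argument, which is killed by `F`
        have h := hu'
        have hlin : ∀ v, ∃ e, (φ (2 * r)).comp (DL x w (2 * r)) v - (G (2 * r)).comp (φ (2 * r + 1)) v = F • e :=
          fun v => by
            obtain ⟨e, he⟩ := hφ (2 * r) v
            exact ⟨e, sub_eq_iff_eq_add'.2 he⟩
        choose e he using hlin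
        set t := D x w (2 * r + 1) (T (r + 1))
        have ht : F • t = 0 := smul_D_T x w hw r
        have h0 : ((φ (2 * r)).comp (DL x w (2 * r)) - (G (2 * r)).comp (φ (2 * r + 1))) t = 0 := by
          rw [← (Pi.basisFun P (jdx m (2 * r + 1))).sum_repr t, map_sum]
          refine Finset.sum_eq_zero fun i _ => ?_
          rw [map_smul, LinearMap.sub_apply, he, Pi.basisFun_repr, smul_smul, mul_comm (t i) F,
            show F * t i = 0 from congrFun ht i, zero_smul]
        rw [LinearMap.sub_apply, LinearMap.comp_apply, LinearMap.comp_apply,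
          show φ (2 * r) (DL x w (2 * r) t) = G (2 * r) (φ (2 * r + 1) t) + F • u' from h, add_sub_cancel_left] at h0
        exact h0
      obtain ⟨e, he⟩ : ∃ e, G (2 * r + 1) (G (2 * (r + 1)) z) = F • e := hdd (2 * r + 1) z
      have ha : G (2 * r) (G (2 * r + 1) (g ^ j • y (r + 1) - G (2 * (r + 1)) z)) = 0 :=
        map_eq_zero_of_smul ((G (2 * r)).comp (G (2 * r + 1))) hGG hz
      rw [map_sub, map_sub, he, map_smul, map_smul, map_smul, hy2, smul_sub, smul_sub, smul_sub] at ha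
      rw [hu'0, smul_zero, sub_zero] at ha
      refine ⟨g ^ j • u + e, ?_⟩
      rw [smul_sub, map_add, map_smul, smul_add, pow_succ, mul_smul, smul_comm F (g ^ j), smul_comm F (g ^ j)]
      rw [← ha, smul_sub (g ^ j)]
      abel
  have hstart : ∃ z, F • (y (N + 1) - G (2 * (N + 1)) z) = 0 := by
    obtain ⟨u, hu⟩ := hy N
    refine htor (2 * N + 1) (by omega) _ ?_
    have h := hDT N
    rwa [hu, smul_add, hFF, add_zero] at h
  obtain ⟨z, hz⟩ := hdescend (N + 1) hstart (N + 1) le_rfl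
  revert z
  rw [Nat.sub_self]
  intro z hz
  exact ⟨N + 1, z, hz⟩

end Groth.FrobLCI.TorObs
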